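import Groth.Agent.Lib.GeomReg18.Stalk
import Mathlib.AlgebraicGeometry.Morphisms.Flat
import Mathlib.RingTheory.Flat.FaithfullyFlat.Algebra
import Mathlib.RingTheory.IntegralClosure.IntegrallyClosed

/-!
# Geometric normality descends along field extensions
-/

universe u

open CategoryTheory CategoryTheory.Limits AlgebraicGeometry

namespace Groth.Agent.GeomNormDesc12

set_option maxHeartbeats 1000000 in
theorem isIntegrallyClosed_of_faithfullyFlat (A B : Type*) [CommRing A] [CommRing B] [Algebra A B]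
    [Module.FaithfullyFlat A B] [IsDomain B] [IsIntegrallyClosed B] : IsDomain A ∧ IsIntegrallyClosed A := by
  have hinj : Function.Injective (algebraMap A B) := FaithfulSMul.algebraMap_injective A B
  haveI : IsDomain A := hinj.isDomain _
  refine ⟨inferInstance, (isIntegrallyClosed_iff (FractionRing A)).2 fun {x} hx => ?_⟩
  obtain ⟨a, b, hb, rfl⟩ := IsFractionRing.div_surjective A x
  have hgi : Function.Injective ((algebraMap B (FractionRing B)).comp (algebraMap A B)) :=
    (IsFractionRing.injective B (FractionRing B)).comp hinj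
  let φ : FractionRing A →+* FractionRing B := IsFractionRing.lift hgi
  have hb0 : algebraMap A B b ≠ 0 := fun e => nonZeroDivisors.ne_zero hb (hinj (by rw [e, map_zero]))
  have hint : IsIntegral B (φ (algebraMap A _ a / algebraMap A _ b)) := by
    obtain ⟨p, hp, hpx⟩ := hx
    refine ⟨p.map (algebraMap A B), hp.map _, ?_⟩
    have hφ : φ.comp (algebraMap A (FractionRing A)) = (algebraMap B (FractionRing B)).comp (algebraMap A B) :=
      RingHom.ext (IsFractionRing.lift_algebraMap (K := FractionRing A) hgi)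
    rw [Polynomial.eval₂_map, ← hφ, ← Polynomial.hom_eval₂, hpx, map_zero]
  obtain ⟨c, hc⟩ := IsIntegrallyClosed.isIntegral_iff.1 hint
  simp only [φ, map_div₀, IsFractionRing.lift_algebraMap, RingHom.comp_apply] at hc
  rw [eq_div_iff ((map_ne_zero_iff _ (IsFractionRing.injective B (FractionRing B))).2 hb0), ← map_mul] at hc
  have hmem : a ∈ ((Ideal.span {b} : Ideal A).map (algebraMap A B)).comap (algebraMap A B) := by
    rw [Ideal.mem_comap, Ideal.map_span, Set.image_singleton, Ideal.mem_span_singleton']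
    exact ⟨c, IsFractionRing.injective B _ hc⟩
  rw [Ideal.comap_map_eq_self_of_faithfullyFlat, Ideal.mem_span_singleton'] at hmem
  obtain ⟨e, he⟩ := hmem
  refine ⟨e, ?_⟩
  rw [eq_div_iff ((map_ne_zero_iff _ (IsFractionRing.injective A (FractionRing A))).2 (nonZeroDivisors.ne_zero hb)), ← map_mul, he]

theorem normal_stalk_of_flat {W Y : Scheme.{u}} (g : W ⟶ Y) [Flat g] (w : W)
    (h : IsDomain (W.presheaf.stalk w) ∧ IsIntegrallyClosed (W.presheaf.stalk w)) :
    IsDomain (Y.presheaf.stalk (g w)) ∧ IsIntegrallyClosed (Y.presheaf.stalk (g w)) := by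
  letI := (g.stalkMap w).hom.toAlgebra
  haveI : Module.Flat (Y.presheaf.stalk (g w)) (W.presheaf.stalk w) := Flat.stalkMap g w
  haveI : IsLocalHom (algebraMap (Y.presheaf.stalk (g w)) (W.presheaf.stalk w)) :=
    inferInstanceAs (IsLocalHom (g.stalkMap w).hom)
  haveI := Module.FaithfullyFlat.of_flat_of_isLocalHom (A := Y.presheaf.stalk (g w)) (B := W.presheaf.stalk w)
  haveI := h.1
  haveI := h.2
  exact isIntegrallyClosed_of_faithfullyFlat _ (W.presheaf.stalk w)

theorem isGeomNormalAt_of_bc (k : Type u) [Field k] (X : Scheme.{u}) [X.Over (Spec (CommRingCat.of k))]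
    (k' : Type u) [Field k'] [Algebra k k'] (x' : ↥(Curv2.bc k X k'))
    (h : letI : (Curv2.bc k X k').Over (Spec (CommRingCat.of k')) := ⟨Curv2.bcSnd k X k'⟩
      ∀ (k'' : Type u) [Field k''] [Algebra k' k''] (x'' : ↥(Curv2.bc k' (Curv2.bc k X k') k'')), Curv2.bcFst k' (Curv2.bc k X k') k'' x'' = x' →
          IsDomain ↥((Curv2.bc k' (Curv2.bc k X k') k'').presheaf.stalk x'') ∧ IsIntegrallyClosed ↥((Curv2.bc k' (Curv2.bc k X k') k'').presheaf.stalk x''))
    (K : Type u) [Field K] [Algebra k K] (w : ↥(Curv2.bc k X K)) (hw : Curv2.bcFst k X K w = Curv2.bcFst k X k' x') :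
    IsDomain ↥((Curv2.bc k X K).presheaf.stalk w) ∧ IsIntegrallyClosed ↥((Curv2.bc k X K).presheaf.stalk w) := by
  obtain ⟨z, hz1, hz2⟩ := Scheme.Pullback.exists_preimage_pullback x' w hw.symm
  let Z := pullback (Curv2.bcFst k X k') (Curv2.bcFst k X K)
  let i := Z.fromSpecResidueField z
  let Ω : Type u := Z.residueField z
  let a₁ : Spec (CommRingCat.of Ω) ⟶ Curv2.bc k X k' := i ≫ pullback.fst _ _
  let a₂ : Spec (CommRingCat.of Ω) ⟶ Curv2.bc k X K := i ≫ pullback.snd _ _
  obtain ⟨a, ha⟩ := Spec.map_surjective (a₁ ≫ Curv2.bcSnd k X k')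
  obtain ⟨b, hb⟩ := Spec.map_surjective (a₂ ≫ Curv2.bcSnd k X K)
  have hfst : a₁ ≫ Curv2.bcFst k X k' = a₂ ≫ Curv2.bcFst k X K := by
    simp only [a₁, a₂, Category.assoc, pullback.condition]
  have hc' : CommRingCat.ofHom (algebraMap k k') ≫ a = CommRingCat.ofHom (algebraMap k K) ≫ b := by
    apply Spec.map_injective
    rw [Spec.map_comp, Spec.map_comp, ha, hb]
    calc (a₁ ≫ Curv2.bcSnd k X k') ≫ Spec.map (CommRingCat.ofHom (algebraMap k k'))
        = (a₁ ≫ Curv2.bcFst k X k') ≫ X ↘ Spec (CommRingCat.of k) := by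
          rw [Category.assoc, Category.assoc]; exact congrArg (a₁ ≫ ·) pullback.condition.symm
      _ = (a₂ ≫ Curv2.bcFst k X K) ≫ X ↘ Spec (CommRingCat.of k) := by rw [hfst]
      _ = (a₂ ≫ Curv2.bcSnd k X K) ≫ Spec.map (CommRingCat.ofHom (algebraMap k K)) := by
          rw [Category.assoc, Category.assoc]; exact congrArg (a₂ ≫ ·) pullback.condition
  letI : Algebra k' Ω := a.hom.toAlgebra
  letI : Algebra k Ω := (a.hom.comp (algebraMap k k')).toAlgebra
  haveI : IsScalarTower k k' Ω := IsScalarTower.of_algebraMap_eq fun _ => rfl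
  let bA : K →ₐ[k] Ω :=
    { b.hom with commutes' := fun r => (congrArg (fun f : CommRingCat.of k ⟶ CommRingCat.of Ω => f.hom r) hc').symm }
  have hbk : bA.toRingHom.comp (algebraMap k K) = algebraMap k Ω := RingHom.ext fun r => bA.commutes r
  letI : (Curv2.bc k X k').Over (Spec (CommRingCat.of k')) := ⟨Curv2.bcSnd k X k'⟩
  let p : Spec (CommRingCat.of Ω) ⟶ Curv2.bc k' (Curv2.bc k X k') Ω :=
    pullback.lift a₁ (𝟙 _) (by
      change a₁ ≫ Curv2.bcSnd k X k' = _
      rw [← ha, Category.id_comp]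
      rfl)
  let w'' := p (IsLocalRing.closedPoint Ω)
  have hi : i (IsLocalRing.closedPoint Ω) = z := Scheme.fromSpecResidueField_apply _ _
  have hnorm := h Ω w'' (by
    change (p ≫ Curv2.bcFst k' (Curv2.bc k X k') Ω) (IsLocalRing.closedPoint Ω) = x'
    rw [Curv2.bcFst, pullback.lift_fst, ← hz1]
    exact congrArg (pullback.fst (Curv2.bcFst k X k') (Curv2.bcFst k X K)) hi)
  let g : Curv2.bc k' (Curv2.bc k X k') Ω ⟶ Curv2.bc k X K :=
    (pullbackLeftPullbackSndIso _ _ _).hom ≫
      pullback.map _ _ _ (Spec.map (CommRingCat.ofHom (algebraMap k K))) (𝟙 X) (Spec.map (CommRingCat.ofHom bA.toRingHom)) (𝟙 _)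
        (by simp) (by
          rw [Category.comp_id, ← Spec.map_comp, ← Spec.map_comp, ← CommRingCat.ofHom_comp, ← CommRingCat.ofHom_comp, hbk,
            ← IsScalarTower.algebraMap_eq k k' Ω])
  haveI : Flat g := by
    haveI : Flat (Spec.map (CommRingCat.ofHom bA.toRingHom)) := by
      rw [HasRingHomProperty.Spec_iff (P := @Flat)]
      letI := bA.toRingHom.toAlgebra
      exact RingHom.flat_algebraMap_iff.2 inferInstance
    haveI : Flat (pullback.map (X ↘ Spec (CommRingCat.of k))
        (Spec.map (CommRingCat.ofHom (algebraMap k' Ω)) ≫ Spec.map (CommRingCat.ofHom (algebraMap k k')))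
        (X ↘ Spec (CommRingCat.of k)) (Spec.map (CommRingCat.ofHom (algebraMap k K)))
        (𝟙 X) (Spec.map (CommRingCat.ofHom bA.toRingHom)) (𝟙 _) (by simp) (by
          rw [Category.comp_id, ← Spec.map_comp, ← Spec.map_comp, ← CommRingCat.ofHom_comp, ← CommRingCat.ofHom_comp, hbk,
            ← IsScalarTower.algebraMap_eq k k' Ω])) :=
      MorphismProperty.pullback_map (P := @Flat) (i₁ := 𝟙 X) (i₂ := Spec.map (CommRingCat.ofHom bA.toRingHom))
        inferInstance inferInstance (Category.id_comp _).symm (by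
          rw [← Spec.map_comp, ← Spec.map_comp, ← CommRingCat.ofHom_comp, ← CommRingCat.ofHom_comp, hbk,
            ← IsScalarTower.algebraMap_eq k k' Ω])
    have hiso : Flat (pullbackLeftPullbackSndIso (X ↘ Spec (CommRingCat.of k)) (Spec.map (CommRingCat.ofHom (algebraMap k k'))) (Spec.map (CommRingCat.ofHom (algebraMap k' Ω)))).hom := inferInstance
    exact MorphismProperty.comp_mem @Flat _ _ hiso this
  have hpg : p ≫ g = a₂ := by
    apply pullback.hom_ext
    · simp only [g]
      erw [Category.assoc, Category.assoc]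
      erw [pullback.lift_fst, Category.comp_id, pullbackLeftPullbackSndIso_hom_fst, pullback.lift_fst_assoc]
      exact hfst
    · simp only [g]
      erw [Category.assoc, Category.assoc]
      erw [pullback.lift_snd]
      erw [pullbackLeftPullbackSndIso_hom_snd_assoc, pullback.lift_snd_assoc]
      change _ = a₂ ≫ Curv2.bcSnd k X K
      rw [Category.id_comp, ← hb]
      rfl
  have := normal_stalk_of_flat g w'' hnorm
  have hgw : g w'' = w := by
    change (p ≫ g) (IsLocalRing.closedPoint Ω) = w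
    rw [hpg, ← hz2]
    exact congrArg (pullback.snd (Curv2.bcFst k X k') (Curv2.bcFst k X K)) hi
  rwa [hgw] at this

end Groth.Agent.GeomNormDesc12
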